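import Mathlib
import Cfsg.Agent.Lib.PSLn.Sylow
import Cfsg.Agent.Lib.CoprimeFixedProduct
import Cfsg.Agent.S0263

/-!
A unitriangular group over a prime field: every subgroup `L` has `|L : L'| ≤ p^(e²/4)`
(leading positions form a triangle-free graph).
-/

set_option autoImplicit false

namespace CfsgLib.GenRank

open Matrix
open scoped commutatorElement

variable {p : ℕ} [hp : Fact p.Prime] {e : ℕ}

/-- The entries. -/
abbrev ent (g : GL (Fin e) (ZMod p)) (i j : Fin e) : ZMod p := (g : Matrix (Fin e) (Fin e) (ZMod p)) i j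

/-- The position order: by height, then by row. -/
def tpos (i j : Fin e) : ℕ := ((j : ℕ) - (i : ℕ)) * e + (i : ℕ)

theorem tpos_le {i j r s : Fin e} (h : tpos i j ≤ tpos r s) :
    (j : ℕ) - i < (s : ℕ) - r ∨ ((j : ℕ) - i = (s : ℕ) - r ∧ (i : ℕ) ≤ r) := by
  unfold tpos at h
  rcases lt_trichotomy ((j : ℕ) - i) ((s : ℕ) - r) with h1 | h1 | h1
  · exact Or.inl h1
  · rw [h1] at h; exact Or.inr ⟨h1, by omega⟩
  · exfalso
    have h2 : ((s : ℕ) - r + 1) * e ≤ ((j : ℕ) - i) * e := Nat.mul_le_mul_right e h1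
    rw [Nat.succ_mul] at h2
    have := r.2
    omega

theorem tpos_lt {i j r s : Fin e} (h : (j : ℕ) - i < (s : ℕ) - r) : tpos i j < tpos r s := by
  by_contra hc
  rcases tpos_le (not_lt.1 hc) with h1 | ⟨h1, -⟩ <;> omega

theorem tpos_inj {i j r s : Fin e} (hij : i < j) (hrs : r < s) (h : tpos i j = tpos r s) :
    i = r ∧ j = s := by
  have a := tpos_le h.le
  have b := tpos_le h.ge
  rw [Fin.ext_iff, Fin.ext_iff]
  have := Fin.lt_def.1 hij
  have := Fin.lt_def.1 hrs
  omega

theorem tpos_bound {i j : Fin e} (hij : i < j) : tpos i j < e * e := by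
  have h1 : ((j : ℕ) - i + 1) * e ≤ e * e := Nat.mul_le_mul_right e (by have := j.2; omega)
  rw [Nat.succ_mul] at h1
  have := i.2
  unfold tpos
  omega

/-- Upper unitriangular. -/
def IsUni (g : GL (Fin e) (ZMod p)) : Prop :=
  ∀ i j, j ≤ i → ent g i j = (1 : Matrix (Fin e) (Fin e) (ZMod p)) i j

theorem IsUni.mul {g h : GL (Fin e) (ZMod p)} (hg : IsUni g) (hh : IsUni h) : IsUni (g * h) :=
  CfsgLib.PSLn.upper_mul hg hh

theorem uni_mul_entry {g h : GL (Fin e) (ZMod p)} (hg : IsUni g) (hh : IsUni h) {r s : Fin e}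
    (hrs : r < s) :
    ent (g * h) r s = ent g r s + ent h r s + ∑ q ∈ Finset.Ioo r s, ent g r q * ent h q s := by
  show ((g : Matrix (Fin e) (Fin e) (ZMod p)) * (h : Matrix (Fin e) (Fin e) (ZMod p))) r s = _
  rw [Matrix.mul_apply, ← Finset.sum_subset (Finset.subset_univ (Finset.Icc r s))]
  · rw [← Finset.Ioc_insert_left hrs.le, Finset.sum_insert (by simp), ← Finset.Ioo_insert_right hrs,
      Finset.sum_insert (by simp)]
    have h1 : ent g r r = 1 := by rw [hg r r le_rfl, one_apply_eq]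
    have h2 : ent h s s = 1 := by rw [hh s s le_rfl, one_apply_eq]
    simp only [ent] at h1 h2 ⊢
    rw [h1, h2]
    ring
  · intro q _ hq
    simp only [Finset.mem_Icc, not_and_or, not_le] at hq
    rcases hq with h' | h'
    · exact mul_eq_zero_of_left ((hg r q h'.le).trans (one_apply_ne h'.ne')) _
    · exact mul_eq_zero_of_right _ ((hh q s h'.le).trans (one_apply_ne h'.ne'))

/-- The filtration by positions. -/
def low (t : ℕ) : Subgroup (GL (Fin e) (ZMod p)) where
  carrier := {g | IsUni g ∧ ∀ i j, i < j → tpos i j < t → ent g i j = 0}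
  one_mem' := ⟨fun i j _ => by simp [ent], fun i j hij _ => by simp [ent, one_apply_ne hij.ne]⟩
  mul_mem' := by
    rintro g h ⟨hg, hg0⟩ ⟨hh, hh0⟩
    refine ⟨hg.mul hh, fun r s hrs ht => ?_⟩
    rw [uni_mul_entry hg hh hrs, hg0 r s hrs ht, hh0 r s hrs ht, Finset.sum_eq_zero, add_zero, add_zero]
    intro q hq
    rw [Finset.mem_Ioo] at hq
    rw [hg0 r q hq.1 ((tpos_lt (by have := Fin.lt_def.1 hq.1; have := Fin.lt_def.1 hq.2; omega)).trans ht), zero_mul]
  inv_mem' := by
    intro g hg
    have hmem : ∀ k : ℕ, g ^ k ∈ {g : GL (Fin e) (ZMod p) | IsUni g ∧ ∀ i j, i < j → tpos i j < t → ent g i j = 0} := by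
      intro k; induction k with
      | zero => exact ⟨fun i j _ => by simp [ent], fun i j hij _ => by simp [ent, one_apply_ne hij.ne]⟩
      | succ k ih =>
        rw [pow_succ]
        obtain ⟨hk, hk0⟩ := ih
        obtain ⟨hg', hg0⟩ := hg
        refine ⟨hk.mul hg', fun r s hrs ht => ?_⟩
        rw [uni_mul_entry hk hg' hrs, hk0 r s hrs ht, hg0 r s hrs ht, Finset.sum_eq_zero, add_zero, add_zero]
        intro q hq
        rw [Finset.mem_Ioo] at hq
        rw [hk0 r q hq.1 ((tpos_lt (by have := Fin.lt_def.1 hq.1; have := Fin.lt_def.1 hq.2; omega)).trans ht), zero_mul]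
    have h : g⁻¹ = g ^ (orderOf g - 1) := inv_eq_of_mul_eq_one_right (by
      rw [← pow_succ', Nat.sub_add_cancel (orderOf_pos g), pow_orderOf_eq_one])
    rw [h]; exact hmem _

theorem mem_low {t : ℕ} {g : GL (Fin e) (ZMod p)} :
    g ∈ low t ↔ IsUni g ∧ ∀ i j, i < j → tpos i j < t → ent g i j = 0 := Iff.rfl

theorem low_zero_of_uni {g : GL (Fin e) (ZMod p)} (hg : IsUni g) : g ∈ low 0 :=
  ⟨hg, fun _ _ _ h => absurd h (Nat.not_lt_zero _)⟩

theorem low_top : low (p := p) (e := e) (e * e) = ⊥ := by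
  rw [Subgroup.eq_bot_iff_forall]
  rintro g ⟨hg, hg0⟩
  refine Units.ext (Matrix.ext fun i j => ?_)
  rcases le_or_gt j i with h | h
  · exact hg i j h
  · rw [Units.val_one, one_apply_ne h.ne]; exact hg0 i j h (tpos_bound h)

open Classical in
/-- The leading positions of a subgroup. -/
noncomputable def lead (L : Subgroup (GL (Fin e) (ZMod p))) : Finset (Fin e × Fin e) :=
  Finset.univ.filter fun x => x.1 < x.2 ∧ ∃ g ∈ L, g ∈ low (tpos x.1 x.2) ∧ ent g x.1 x.2 ≠ 0

theorem mem_lead {L : Subgroup (GL (Fin e) (ZMod p))} {i j : Fin e} :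
    (i, j) ∈ lead L ↔ i < j ∧ ∃ g ∈ L, g ∈ low (tpos i j) ∧ ent g i j ≠ 0 := by
  classical simp [lead]

theorem lead_mono {K L : Subgroup (GL (Fin e) (ZMod p))} (h : K ≤ L) : lead K ⊆ lead L := by
  rintro ⟨i, j⟩ hx
  rw [mem_lead] at hx ⊢
  obtain ⟨hij, g, hg, h1⟩ := hx
  exact ⟨hij, g, h hg, h1⟩

open Classical in
theorem card_inf_low (L : Subgroup (GL (Fin e) (ZMod p))) : ∀ d t, t + d = e * e →
    Nat.card (L ⊓ low t : Subgroup (GL (Fin e) (ZMod p))) =
      p ^ ((lead L).filter fun x => t ≤ tpos x.1 x.2).card := by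
  intro d
  induction d with
  | zero =>
    intro t ht
    obtain rfl : t = e * e := by omega
    rw [low_top, inf_bot_eq, Subgroup.card_bot, Finset.card_eq_zero.2, pow_zero]
    rw [Finset.filter_eq_empty_iff]
    rintro ⟨i, j⟩ hx
    have := tpos_bound (mem_lead.1 hx).1
    simp only [not_le]
    exact this
  | succ d ih =>
    intro t ht
    have hrec := ih (t + 1) (by omega)
    by_cases hex : ∃ i j, (i, j) ∈ lead L ∧ tpos i j = t
    · obtain ⟨i, j, hmem, rfl⟩ := hex
      obtain ⟨hij, g₀, hg₀, hg₀l, hne⟩ := mem_lead.1 hmem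
      let f : ↥(L ⊓ low (tpos i j)) →* Multiplicative (ZMod p) :=
        MonoidHom.mk' (fun g => Multiplicative.ofAdd (ent (g : GL (Fin e) (ZMod p)) i j)) fun a b => by
          rw [← ofAdd_add]
          refine congrArg _ ?_
          show ent ((a : GL (Fin e) (ZMod p)) * (b : GL (Fin e) (ZMod p))) i j = _
          rw [uni_mul_entry a.2.2.1 b.2.2.1 hij, Finset.sum_eq_zero, add_zero]
          intro q hq
          rw [Finset.mem_Ioo] at hq
          rw [a.2.2.2 i q hq.1 (tpos_lt (by have := Fin.lt_def.1 hq.1; have := Fin.lt_def.1 hq.2; omega)), zero_mul]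
      have hker : f.ker.map (L ⊓ low (tpos i j)).subtype = L ⊓ low (tpos i j + 1) := by
        ext x
        constructor
        · rintro ⟨a, ha, rfl⟩
          refine ⟨a.2.1, a.2.2.1, fun r s hrs hlt => ?_⟩
          rcases Nat.lt_or_ge (tpos r s) (tpos i j) with h | h
          · exact a.2.2.2 r s hrs h
          · obtain ⟨rfl, rfl⟩ := tpos_inj hrs hij (by omega)
            exact Multiplicative.ofAdd.injective ha
        · rintro ⟨hxL, hxu, hx0⟩
          refine ⟨⟨x, hxL, hxu, fun r s hrs h => hx0 r s hrs (by omega)⟩, ?_, rfl⟩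
          show Multiplicative.ofAdd (ent x i j) = 1
          rw [hx0 i j hij (by omega)]; rfl
      have hprime : (Nat.card (Multiplicative (ZMod p))).Prime := by
        rw [Nat.card_congr Multiplicative.toAdd, Nat.card_zmod]; exact hp.out
      have hrange : f.range = ⊤ := by
        haveI := Fact.mk hprime
        rcases Subgroup.eq_bot_or_eq_top_of_prime_card f.range with h | h
        · exfalso
          have : f ⟨g₀, hg₀, hg₀l⟩ = 1 := Subgroup.mem_bot.1 (h ▸ ⟨_, rfl⟩)
          exact hne (Multiplicative.ofAdd.injective this)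
        · exact h
      have h1 := f.ker.card_mul_index
      rw [Subgroup.index_ker, hrange, Subgroup.card_top, Nat.card_congr Multiplicative.toAdd, Nat.card_zmod,
        ← Subgroup.card_map_of_injective (L ⊓ low (tpos i j)).subtype_injective, hker, hrec] at h1
      rw [← h1, ← pow_succ]
      refine congrArg (p ^ ·) ?_
      rw [← Finset.card_insert_of_notMem (a := (i, j)) (by simp)]
      refine congrArg _ (Finset.ext ?_)
      rintro ⟨r, s⟩
      simp only [Finset.mem_insert, Finset.mem_filter, Prod.mk.injEq]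
      constructor
      · rintro (⟨rfl, rfl⟩ | ⟨h, h'⟩)
        · exact ⟨hmem, le_rfl⟩
        · exact ⟨h, by omega⟩
      · rintro ⟨h, h'⟩
        rcases Nat.lt_or_ge (tpos i j) (tpos r s) with h2 | h2
        · exact Or.inr ⟨h, h2⟩
        · exact Or.inl (tpos_inj (mem_lead.1 h).1 hij (by omega))
    · push_neg at hex
      have heq : L ⊓ low t = L ⊓ low (t + 1) := by
        refine le_antisymm ?_ ?_
        · rintro x ⟨hxL, hxu, hx0⟩
          refine ⟨hxL, hxu, fun r s hrs hlt => ?_⟩
          rcases Nat.lt_or_ge (tpos r s) t with h | h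
          · exact hx0 r s hrs h
          · by_contra hne
            exact hex r s (mem_lead.2 ⟨hrs, x, hxL, ⟨hxu, fun a b hab h' => hx0 a b hab (by omega)⟩, hne⟩) (by omega)
        · rintro x ⟨hxL, hxu, hx0⟩
          exact ⟨hxL, hxu, fun r s hrs h => hx0 r s hrs (by omega)⟩
      rw [heq, hrec]
      refine congrArg (p ^ ·) (congrArg _ (Finset.filter_congr ?_))
      rintro ⟨r, s⟩ hrs
      have := hex r s hrs
      simp only at this ⊢
      exact ⟨fun h => by omega, fun h => by omega⟩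

theorem card_eq_pow_lead {L : Subgroup (GL (Fin e) (ZMod p))} (hL : ∀ g ∈ L, IsUni g) :
    Nat.card L = p ^ (lead L).card := by
  classical
  have h := card_inf_low L (e * e) 0 (by simp)
  rw [inf_eq_left.2 fun g hg => low_zero_of_uni (hL g hg), Finset.filter_true_of_mem fun x _ => Nat.zero_le _] at h
  exact h

/-- Leading positions compose under commutators. -/
theorem lead_comp {L K : Subgroup (GL (Fin e) (ZMod p))} (hL : ∀ g ∈ L, IsUni g)
    (hK : ⁅L, L⁆ ≤ K) {i j l : Fin e} (h1 : (i, j) ∈ lead L) (h2 : (j, l) ∈ lead L) :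
    (i, l) ∈ lead K := by
  obtain ⟨hij, g, hg, ⟨hgu, hg0⟩, ha⟩ := mem_lead.1 h1
  obtain ⟨hjl, h, hh, ⟨hhu, hh0⟩, hb⟩ := mem_lead.1 h2
  have hil : i < l := hij.trans hjl
  set c := ⁅g, h⁆ with hc
  have hcu : IsUni c := hL c ((Subgroup.commutator_le.2 fun x hx y hy => by
    rw [commutatorElement_def]
    exact L.mul_mem (L.mul_mem (L.mul_mem hx hy) (L.inv_mem hx)) (L.inv_mem hy) : ⁅L, L⁆ ≤ L)
    (Subgroup.commutator_mem_commutator hg hh))
  have hmul : c * (h * g) = g * h := by rw [hc, commutatorElement_def]; group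
  have key : ∀ (w : ℕ) (r s : Fin e), r < s → (s : ℕ) - r = w → tpos r s ≤ tpos i l →
      ent c r s = if r = i ∧ s = l then ent g i j * ent h j l else 0 := by
    intro w
    induction w using Nat.strong_induction_on with
    | _ w ih =>
      intro r s hrs hw ht
      have hR := Fin.lt_def.1 hrs
      have hI := Fin.lt_def.1 hij
      have hJ := Fin.lt_def.1 hjl
      have hS := tpos_le ht
      have e0 : ∑ q ∈ Finset.Ioo r s, ent c r q * ent (h * g) q s = 0 := Finset.sum_eq_zero fun q hq => by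
        rw [Finset.mem_Ioo] at hq
        have := Fin.lt_def.1 hq.1; have := Fin.lt_def.1 hq.2
        rw [ih ((q : ℕ) - r) (by omega) r q hq.1 rfl ((tpos_lt (by omega)).le.trans ht), if_neg, zero_mul]
        rintro ⟨rfl, rfl⟩
        omega
      have e2 : ∑ q ∈ Finset.Ioo r s, ent h r q * ent g q s = 0 := Finset.sum_eq_zero fun q hq => by
        rw [Finset.mem_Ioo] at hq
        have := Fin.lt_def.1 hq.1; have := Fin.lt_def.1 hq.2
        by_contra hne
        obtain ⟨n1, n2⟩ := not_or.1 (mt mul_eq_zero.2 hne)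
        have a1 := tpos_le (not_lt.1 (mt (hh0 r q hq.1) n1))
        have a2 := tpos_le (not_lt.1 (mt (hg0 q s hq.2) n2))
        omega
      have e1 : ∑ q ∈ Finset.Ioo r s, ent g r q * ent h q s =
          if r = i ∧ s = l then ent g i j * ent h j l else 0 := by
        split_ifs with hrl
        · obtain ⟨rfl, rfl⟩ := hrl
          refine Finset.sum_eq_single_of_mem j (Finset.mem_Ioo.2 ⟨hij, hjl⟩) fun q hq hqj => ?_
          rw [Finset.mem_Ioo] at hq
          have := Fin.lt_def.1 hq.1; have := Fin.lt_def.1 hq.2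
          by_contra hne
          obtain ⟨n1, n2⟩ := not_or.1 (mt mul_eq_zero.2 hne)
          have a1 := tpos_le (not_lt.1 (mt (hg0 r q hq.1) n1))
          have a2 := tpos_le (not_lt.1 (mt (hh0 q s hq.2) n2))
          exact hqj (Fin.ext (by omega))
        · refine Finset.sum_eq_zero fun q hq => ?_
          rw [Finset.mem_Ioo] at hq
          have := Fin.lt_def.1 hq.1; have := Fin.lt_def.1 hq.2
          by_contra hne
          obtain ⟨n1, n2⟩ := not_or.1 (mt mul_eq_zero.2 hne)
          have a1 := tpos_le (not_lt.1 (mt (hg0 r q hq.1) n1))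
          have a2 := tpos_le (not_lt.1 (mt (hh0 q s hq.2) n2))
          exact hrl ⟨Fin.ext (by omega), Fin.ext (by omega)⟩
      have hm : ent (c * (h * g)) r s = ent (g * h) r s := by rw [hmul]
      rw [uni_mul_entry hcu (hhu.mul hgu) hrs, e0, uni_mul_entry hhu hgu hrs, e2,
        uni_mul_entry hgu hhu hrs, e1] at hm
      linear_combination hm
  refine mem_lead.2 ⟨hil, c, hK (Subgroup.commutator_mem_commutator hg hh), ⟨hcu, fun r s hrs ht => ?_⟩, ?_⟩
  · rw [key _ r s hrs rfl ht.le, if_neg]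
    rintro ⟨rfl, rfl⟩
    exact lt_irrefl _ ht
  · rw [key _ i l hil rfl le_rfl, if_pos ⟨rfl, rfl⟩]
    exact mul_ne_zero ha hb

/-- The bound for unitriangular groups. -/
theorem card_le_uni {L : Subgroup (GL (Fin e) (ZMod p))} (hL : ∀ g ∈ L, IsUni g) :
    Nat.card L ≤ p ^ (e ^ 2 / 4) * Nat.card (⁅L, L⁆ : Subgroup (GL (Fin e) (ZMod p))) := by
  classical
  set K : Subgroup (GL (Fin e) (ZMod p)) := ⁅L, L⁆ with hK
  have hKL : K ≤ L := Subgroup.commutator_le.2 fun x hx y hy => by
    rw [commutatorElement_def]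
    exact L.mul_mem (L.mul_mem (L.mul_mem hx hy) (L.inv_mem hx)) (L.inv_mem hy)
  rw [card_eq_pow_lead hL, card_eq_pow_lead fun g hg => hL g (hKL hg), ← pow_add]
  refine Nat.pow_le_pow_right hp.out.pos ?_
  set D := lead L \ lead K with hD
  let Γ : SimpleGraph (Fin e) := SimpleGraph.fromRel fun a b => (a, b) ∈ D
  have hsorted : ∀ a b, Γ.Adj a b → a < b → (a, b) ∈ D := by
    intro a b hab hlt
    rcases ((SimpleGraph.fromRel_adj _ a b).1 hab).2 with h | h
    · exact h
    · exact absurd (mem_lead.1 (Finset.mem_sdiff.1 h).1).1 (not_lt.2 hlt.le)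
  have htri : ∀ a b c, a < b → b < c → Γ.Adj a b → Γ.Adj b c → Γ.Adj a c → False := by
    intro a b c hab hbc h1 h2 h3
    exact (Finset.mem_sdiff.1 (hsorted a c h3 (hab.trans hbc))).2
      (lead_comp hL le_rfl (Finset.mem_sdiff.1 (hsorted a b h1 hab)).1 (Finset.mem_sdiff.1 (hsorted b c h2 hbc)).1)
  have hcf : Γ.CliqueFree (2 + 1) := by
    intro s hs
    obtain ⟨a, b, c, hab, hac, hbc, -⟩ := SimpleGraph.is3Clique_iff.1 hs
    rcases lt_trichotomy a b with h | h | h
    · rcases lt_trichotomy b c with h' | h' | h'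
      · exact htri a b c h h' hab hbc hac
      · exact hbc.ne h'
      · rcases lt_trichotomy a c with h'' | h'' | h''
        · exact htri a c b h'' h' hac hbc.symm hab
        · exact hac.ne h''
        · exact htri c a b h'' h hac.symm hab hbc.symm
    · exact hab.ne h
    · rcases lt_trichotomy a c with h' | h' | h'
      · exact htri b a c h h' hab.symm hac hbc
      · exact hac.ne h'
      · rcases lt_trichotomy b c with h'' | h'' | h''
        · exact htri b c a h'' h' hbc hac.symm hab.symm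
        · exact hbc.ne h''
        · exact htri c b a h'' h hbc.symm hab.symm hac.symm
  have hturan := hcf.card_edgeFinset_le
  have hDe : D.card ≤ Γ.edgeFinset.card := by
    refine Finset.card_le_card_of_injOn (fun x => s(x.1, x.2)) (fun x hx => ?_) ?_
    · rw [Finset.mem_coe, SimpleGraph.mem_edgeFinset, SimpleGraph.mem_edgeSet]
      rw [SimpleGraph.fromRel_adj]
      exact ⟨(mem_lead.1 (Finset.mem_sdiff.1 (Finset.mem_coe.1 hx)).1).1.ne, Or.inl hx⟩
    · rintro ⟨a, b⟩ hx ⟨c, d⟩ hy heq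
      have h1 := (mem_lead.1 (Finset.mem_sdiff.1 (Finset.mem_coe.1 hx)).1).1
      have h2 := (mem_lead.1 (Finset.mem_sdiff.1 (Finset.mem_coe.1 hy)).1).1
      rcases Sym2.eq_iff.1 heq with ⟨rfl, rfl⟩ | ⟨rfl, rfl⟩
      · rfl
      · exact absurd h2 (not_lt.2 h1.le)
  rw [Fintype.card_fin] at hturan
  have hsplit : (lead L).card = D.card + (lead K).card := by
    rw [hD, Finset.card_sdiff_add_card_eq_card (lead_mono hKL)]
  have hch : (e % 2).choose 2 = 0 := Nat.choose_eq_zero_of_lt (Nat.mod_lt _ (by norm_num))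
  have hb : (e ^ 2 - (e % 2) ^ 2) * (2 - 1) / (2 * 2) ≤ e ^ 2 / 4 := by
    refine Nat.div_le_div_right ?_
    simp
  simp only [hch, add_zero] at hturan
  omega

/-- Every `p`-subgroup is conjugate into the unitriangular group. -/
theorem exists_conj_uni {L : Subgroup (GL (Fin e) (ZMod p))} (hL : IsPGroup p L) :
    ∃ c : GL (Fin e) (ZMod p), ∀ g ∈ L, IsUni (c * g * c⁻¹) := by
  classical
  let U : Subgroup (GL (Fin e) (ZMod p)) :=
    (CfsgLib.PSLn.upper (ZMod p) e).map Matrix.SpecialLinearGroup.toGL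
  have hU : ∀ g ∈ U, IsUni g := by
    rintro _ ⟨A, hA, rfl⟩ i j hji
    exact hA i j hji
  have hcard : Nat.card U = p ^ (e * (e - 1) / 2) := by
    rw [Subgroup.card_map_of_injective Matrix.SpecialLinearGroup.toGL_injective, CfsgLib.PSLn.card_upper,
      Finset.prod_pow_eq_pow_sum, ZMod.card, Fin.sum_univ_eq_sum_range (fun i => i) e, Finset.sum_range_id]
  obtain ⟨S, hS⟩ := (IsPGroup.of_card hcard).exists_le_sylow
  have hSU : U = S := Subgroup.eq_of_le_of_card_ge hS (le_of_eq (by
    rw [hcard]; exact Cfsg.Agent.S0263.result (F := ZMod p) (ZMod.card p) p e S))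
  obtain ⟨T, hT⟩ := hL.exists_le_sylow
  obtain ⟨c, hc⟩ := MulAction.exists_smul_eq (GL (Fin e) (ZMod p)) T S
  refine ⟨c, fun g hg => hU _ ?_⟩
  rw [hSU, ← hc]
  rw [Sylow.coe_subgroup_smul]
  exact ⟨g, hT hg, rfl⟩

/-- Every `p`-subgroup `L` of `GL_e(p)` has `|L : L'| ≤ p^(e²/4)`. -/
theorem card_le_gl {L : Subgroup (GL (Fin e) (ZMod p))} (hL : IsPGroup p L) :
    Nat.card L ≤ p ^ (e ^ 2 / 4) * Nat.card (⁅L, L⁆ : Subgroup (GL (Fin e) (ZMod p))) := by
  obtain ⟨c, hc⟩ := exists_conj_uni hL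
  have h := card_le_uni (L := L.map (MulAut.conj c).toMonoidHom) (by
    rintro _ ⟨g, hg, rfl⟩
    exact hc g hg)
  rwa [← Subgroup.map_commutator, Subgroup.card_map_of_injective (MulAut.conj c).injective,
    Subgroup.card_map_of_injective (MulAut.conj c).injective] at h

end CfsgLib.GenRank
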