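import Mathlib
import Cfsg.Agent.Lib.GenRank.Unitri
import Cfsg.Agent.Lib.Elementary
import Cfsg.Agent.Lib.PGroup.Alperin
import Cfsg.Agent.Lib.PGroup.Blackburn.PCentral
import Cfsg.Agent.Lib.PGroup.MetacyclicRank
import Cfsg.Agent.Lib.CompLength.Primitive

/-!
Generator numbers of subgroups of an odd `p`-group whose normal abelian subgroups are `k`-generated.
-/

set_option autoImplicit false
set_option linter.unusedSectionVars false

universe u

set_option maxHeartbeats 1000000

namespace CfsgLib.GenRank

open scoped commutatorElement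
open CfsgLib.PGroupMeta (powSub)

variable {p : ℕ} [hp : Fact p.Prime]

theorem pcentral_card (hp2 : p ≠ 2) : ∀ (n : ℕ) (X : Type u) [Group X] [Finite X], Nat.card X ≤ n →
    IsPGroup p X → (∀ x : X, x ^ p = 1 → x ∈ Subgroup.center X) →
    ∀ A : Subgroup X, (∀ x : X, x ∈ A ↔ x ^ p = 1) → Nat.card X ≤ Nat.card A * Nat.card (powSub p X) := by
  intro n
  induction n with
  | zero => intro X _ _ h; exact absurd h (Nat.not_le.2 Nat.card_pos)
  | succ n ih =>
    intro X _ _ hn hX hcen A hA
    rcases subsingleton_or_nontrivial X with h | h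
    · rw [Nat.card_unique]
      exact Nat.mul_pos Nat.card_pos Nat.card_pos
    obtain ⟨d, hd⟩ := hX.exists_card_eq
    have hd0 : d ≠ 0 := by
      rintro rfl
      exact absurd hd (by rw [pow_zero]; exact Finite.one_lt_card.ne')
    obtain ⟨a, ha⟩ := exists_prime_orderOf_dvd_card' p (hd ▸ dvd_pow_self p hd0)
    have haA : a ∈ A := (hA a).2 (ha ▸ pow_orderOf_eq_one a)
    haveI hAn : A.Normal := ⟨fun x hx g => by
      rwa [(Subgroup.mem_center_iff.1 (hcen x ((hA x).1 hx)) g), mul_inv_cancel_right]⟩
    set q := QuotientGroup.mk' A with hq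
    -- the elements of order dividing `p²`
    let W : Subgroup X :=
      { carrier := {x | (x ^ p) ^ p = 1}
        one_mem' := by simp
        mul_mem' := fun {x y} hx hy => by
          show ((x * y) ^ p) ^ p = 1
          rw [CfsgLib.Blackburn.pow_mul_of_omega hp2 hX hcen hx y,
            (show Commute (x ^ p) (y ^ p) from ((Subgroup.mem_center_iff.1 (hcen _ hx)) (y ^ p)).symm).mul_pow,
            show (x ^ p) ^ p = 1 from hx, show (y ^ p) ^ p = 1 from hy, one_mul]
        inv_mem' := fun {x} hx => by
          show ((x⁻¹) ^ p) ^ p = 1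
          rw [inv_pow, inv_pow, show (x ^ p) ^ p = 1 from hx, inv_one] }
    let f : W →* X := MonoidHom.mk' (fun x => (x : X) ^ p) fun x y =>
      CfsgLib.Blackburn.pow_mul_of_omega hp2 hX hcen x.2 y
    have hAW : A ≤ W := fun x hx => by
      show (x ^ p) ^ p = 1
      rw [(hA x).1 hx, one_pow]
    have hfker : f.ker.map W.subtype = A := by
      ext x
      constructor
      · rintro ⟨y, hy, rfl⟩; exact (hA _).2 hy
      · intro hx; exact ⟨⟨x, hAW hx⟩, (hA x).1 hx, rfl⟩
    have hfr : f.range ≤ powSub p X ⊓ A := by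
      rintro _ ⟨y, rfl⟩
      exact ⟨Subgroup.subset_closure ⟨(y : X), rfl⟩, (hA _).2 y.2⟩
    have h1 := f.ker.card_mul_index
    rw [Subgroup.index_ker, ← Subgroup.card_map_of_injective W.subtype_injective, hfker] at h1
    -- the quotient
    have hB : ∀ z : X ⧸ A, z ∈ W.map q ↔ z ^ p = 1 := by
      intro z
      obtain ⟨x, rfl⟩ := QuotientGroup.mk'_surjective A z
      rw [← map_pow, ← MonoidHom.mem_ker, QuotientGroup.ker_mk', hA]
      constructor
      · rintro ⟨w, hw, hwx⟩
        obtain ⟨c, hc, hwc⟩ : ∃ c ∈ A, w * c = x :=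
          ⟨w⁻¹ * x, QuotientGroup.eq.1 hwx, by group⟩
        rw [← hwc]
        exact W.mul_mem hw (hAW hc)
      · exact fun h => ⟨x, h, rfl⟩
    have hcenQ : ∀ z : X ⧸ A, z ^ p = 1 → z ∈ Subgroup.center (X ⧸ A) := by
      intro z hz
      obtain ⟨x, rfl⟩ := QuotientGroup.mk'_surjective A z
      rw [← map_pow, ← MonoidHom.mem_ker, QuotientGroup.ker_mk', hA] at hz
      refine Subgroup.mem_center_iff.2 fun w => ?_
      obtain ⟨y, rfl⟩ := QuotientGroup.mk'_surjective A w
      rw [← commutatorElement_eq_one_iff_mul_comm, ← map_commutatorElement, ← MonoidHom.mem_ker,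
        QuotientGroup.ker_mk', hA]
      exact CfsgLib.Blackburn.comm_pow_eq_one hp2 hX hcen hz y
    have hlt : Nat.card (X ⧸ A) ≤ n := by
      have h2 := A.card_eq_card_quotient_mul_card_subgroup
      have h3 : 1 < Nat.card A := by
        have : Nontrivial A := ⟨⟨a, haA⟩, 1, fun e => by
          have e1 : a = 1 := congrArg Subtype.val e
          rw [e1, orderOf_one] at ha
          exact hp.out.ne_one ha.symm⟩
        exact Finite.one_lt_card
      have h4 : 0 < Nat.card (X ⧸ A) := Nat.card_pos
      nlinarith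
    have hih := ih (X ⧸ A) hlt (hX.to_quotient A) hcenQ (W.map q) hB
    have hpow : powSub p (X ⧸ A) ≤ (powSub p X).map q := by
      refine (Subgroup.closure_le _).2 ?_
      rintro _ ⟨w, rfl⟩
      obtain ⟨y, rfl⟩ := QuotientGroup.mk'_surjective A w
      exact ⟨y ^ p, Subgroup.subset_closure ⟨y, rfl⟩, map_pow q y p⟩
    have hker : q.ker = A := QuotientGroup.ker_mk' A
    have hW : Nat.card (W.map q) * Nat.card (W ⊓ A : Subgroup X) = Nat.card W := by
      have h := CfsgLib.FixProd.card_map_mul q W
      rwa [hker] at h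
    have hP : Nat.card ((powSub p X).map q) * Nat.card (powSub p X ⊓ A : Subgroup X) = Nat.card (powSub p X) := by
      have h := CfsgLib.FixProd.card_map_mul q (powSub p X)
      rwa [hker] at h
    rw [inf_eq_right.2 hAW] at hW
    replace hih := hih.trans (Nat.mul_le_mul_left _ (Subgroup.card_le_of_le hpow))
    have hr := Subgroup.card_le_of_le hfr
    have hBle : Nat.card (W.map q) ≤ Nat.card (powSub p X ⊓ A : Subgroup X) := by
      have h0 : 0 < Nat.card A := Nat.card_pos
      have : Nat.card A * Nat.card (W.map q) ≤ Nat.card A * Nat.card (powSub p X ⊓ A : Subgroup X) := by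
        rw [mul_comm, hW, ← h1]
        exact Nat.mul_le_mul_left _ hr
      exact Nat.le_of_mul_le_mul_left this h0
    calc Nat.card X = Nat.card (X ⧸ A) * Nat.card A := A.card_eq_card_quotient_mul_card_subgroup
      _ ≤ Nat.card (W.map q) * Nat.card ((powSub p X).map q) * Nat.card A := Nat.mul_le_mul_right _ hih
      _ ≤ Nat.card (powSub p X ⊓ A : Subgroup X) * Nat.card ((powSub p X).map q) * Nat.card A :=
          Nat.mul_le_mul_right _ (Nat.mul_le_mul_right _ hBle)
      _ = Nat.card A * Nat.card (powSub p X) := by rw [← hP]; ring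

/-- Generators from the order of the Frattini quotient. -/
theorem exists_gen_of_card {X : Type u} [Group X] [Finite X] (hX : IsPGroup p X) (N : Subgroup X) [N.Normal]
    (hN : N ≤ frattini X) {d : ℕ} (hd : Nat.card X ≤ p ^ d * Nat.card N) :
    ∃ S : Finset X, S.card ≤ d ∧ Subgroup.closure (S : Set X) = ⊤ := by
  classical
  obtain ⟨m, hm⟩ := (hX.to_quotient N).exists_card_eq
  rw [N.card_eq_card_quotient_mul_card_subgroup, hm] at hd
  have hmd : m ≤ d := (Nat.pow_le_pow_iff_right hp.out.one_lt).1 (Nat.le_of_mul_le_mul_right hd Nat.card_pos)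
  obtain ⟨l, hl, hcl⟩ := CfsgLib.CompLength.exists_generators hp.out hm
  choose lift hlift using QuotientGroup.mk'_surjective N
  refine ⟨(l.map lift).toFinset, ((List.toFinset_card_le _).trans (by simpa using hl)).trans hmd, ?_⟩
  refine frattini_nongenerating (top_le_iff.1 ?_)
  refine le_trans ?_ (sup_le_sup_left hN _)
  intro x _
  have hx : QuotientGroup.mk' N x ∈
      (Subgroup.closure (((l.map lift).toFinset : Finset X) : Set X)).map (QuotientGroup.mk' N) := by
    have : Subgroup.closure {y | y ∈ l} ≤
        (Subgroup.closure (((l.map lift).toFinset : Finset X) : Set X)).map (QuotientGroup.mk' N) :=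
      (Subgroup.closure_le _).2 fun y hy => ⟨lift y, Subgroup.subset_closure (by
        simp only [Finset.mem_coe, List.mem_toFinset, List.mem_map]
        exact ⟨y, hy, rfl⟩), hlift y⟩
    exact this (hcl ▸ Subgroup.mem_top _)
  obtain ⟨s, hs, hsx⟩ := hx
  rw [← mul_inv_cancel_left s x]
  exact Subgroup.mul_mem_sup hs (QuotientGroup.eq.1 hsx)

/-- Generators of a group from a normal subgroup and the image. -/
theorem exists_gen_ext {X Y : Type*} [Group X] [Group Y] (f : X →* Y) (S : Finset X)
    (hS : Subgroup.closure (S : Set X) = f.ker) (T : Finset Y) (hT : Subgroup.closure (T : Set Y) = f.range) :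
    ∃ U : Finset X, U.card ≤ S.card + T.card ∧ Subgroup.closure (U : Set X) = ⊤ := by
  classical
  have hlift : ∀ y ∈ T, ∃ x, f x = y := fun y hy => (hT ▸ Subgroup.subset_closure hy : y ∈ f.range)
  choose g hg using hlift
  refine ⟨S ∪ T.attach.image (fun y => g y.1 y.2),
    (Finset.card_union_le _ _).trans (Nat.add_le_add_left ((Finset.card_image_le).trans_eq T.card_attach) _),
    top_le_iff.1 fun x _ => ?_⟩
  set U := Subgroup.closure ((S ∪ T.attach.image (fun y => g y.1 y.2) : Finset X) : Set X)
  have h1 : f.ker ≤ U := hS ▸ Subgroup.closure_mono (by simp)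
  have h2 : f.range ≤ U.map f := hT ▸ (Subgroup.closure_le _).2 fun y hy =>
    ⟨g y hy, Subgroup.subset_closure (Finset.mem_coe.2 (Finset.mem_union_right _
      (Finset.mem_image.2 ⟨⟨y, hy⟩, Finset.mem_attach _ _, rfl⟩))), hg y hy⟩
  obtain ⟨u, hu, hux⟩ := h2 ⟨x, rfl⟩
  rw [← mul_inv_cancel_left u x]
  exact U.mul_mem hu (h1 (by rw [MonoidHom.mem_ker, map_mul, map_inv, hux, inv_mul_cancel]))

/-- An abelian group of exponent `p` generated by `k` elements. -/
theorem card_le_of_gen {V : Type*} [CommGroup V] [Finite V] (he : ∀ x : V, x ^ p = 1) :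
    ∀ S : Finset V, Nat.card (Subgroup.closure (S : Set V)) ≤ p ^ S.card := by
  classical
  intro S
  induction S using Finset.induction with
  | empty => simp
  | @insert a s ha ih =>
    rw [Finset.coe_insert, Set.insert_eq, Subgroup.closure_union, Finset.card_insert_of_notMem ha, pow_succ']
    let m : Subgroup.closure ({a} : Set V) × Subgroup.closure (s : Set V) →
        ↥(Subgroup.closure ({a} : Set V) ⊔ Subgroup.closure (s : Set V)) :=
      fun x => ⟨x.1 * x.2, Subgroup.mul_mem_sup x.1.2 x.2.2⟩
    refine (Nat.card_le_card_of_surjective m fun z => ?_).trans ?_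
    · obtain ⟨x, hx, y, hy, hxy⟩ := Subgroup.mem_sup.1 z.2
      exact ⟨(⟨x, hx⟩, ⟨y, hy⟩), Subtype.ext hxy⟩
    · rw [Nat.card_prod]
      refine Nat.mul_le_mul ?_ ih
      rw [← Subgroup.zpowers_eq_closure, Nat.card_zpowers]
      exact Nat.le_of_dvd hp.out.pos (orderOf_dvd_of_pow_eq_one (he a))

/-- Automorphisms of an elementary abelian group as matrices. -/
theorem exists_gl {V : Type*} [CommGroup V] [Finite V] (he : ∀ x : V, x ^ p = 1) {e : ℕ}
    (hc : Nat.card V = p ^ e) :
    ∃ f : MulAut V →* GL (Fin e) (ZMod p), Function.Injective f := by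
  letI : Module (ZMod p) (Additive V) := AddCommGroup.zmodModule (n := p) (G := Additive V) (show ∀ x : Additive V, p • x = 0 from fun x => he x)
  have hn : Module.finrank (ZMod p) (Additive V) = e := by
    have h : Nat.card V = p ^ Module.finrank (ZMod p) (Additive V) := by
      rw [show Nat.card V = Nat.card (Additive V) from rfl, Module.natCard_eq_pow_finrank (K := ZMod p),
        Nat.card_zmod]
    exact Nat.pow_right_injective hp.out.two_le (h.symm.trans hc)
  haveI : Module.Finite (ZMod p) (Additive V) := Module.Finite.of_finite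
  haveI : Module.Free (ZMod p) (Additive V) := Module.Free.of_divisionRing (ZMod p) (Additive V)
  let b : Module.Basis (Fin e) (ZMod p) (Additive V) := Module.finBasisOfFinrankEq _ _ hn
  let ext : MulAut V →* (Module.End (ZMod p) (Additive V))ˣ :=
    { toFun := fun σ => (LinearMap.GeneralLinearGroup.generalLinearEquiv (ZMod p) (Additive V)).symm
        (LinearEquiv.ofBijective (AddMonoidHom.toZModLinearMap p (MonoidHom.toAdditive σ.toMonoidHom))
          σ.bijective)
      map_one' := Units.ext (LinearMap.ext fun w => rfl)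
      map_mul' := fun σ τ => Units.ext (LinearMap.ext fun w => rfl) }
  have hinj : Function.Injective ext := by
    intro σ τ h
    ext x
    exact congrArg (fun u : (Module.End (ZMod p) (Additive V))ˣ => Additive.toMul (u.1 (Additive.ofMul x))) h
  exact ⟨(Units.mapEquiv (LinearMap.toMatrixAlgEquiv b).toMulEquiv).toMonoidHom.comp ext,
    (Units.mapEquiv (LinearMap.toMatrixAlgEquiv b).toMulEquiv).injective.comp hinj⟩

/-- The theorem. -/
theorem main {P : Type u} [Group P] [Finite P] (hp2 : p ≠ 2) (hP : IsPGroup p P) (k : ℕ)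
    (hab : ∀ A : Subgroup P, A.Normal → IsMulCommutative A → ∃ S : Finset P, S.card ≤ k ∧ Subgroup.closure (S : Set P) = A)
    (H : Subgroup P) : ∃ S : Finset P, S.card ≤ k * (k + 4) / 4 ∧ Subgroup.closure (S : Set P) = H := by
  classical
  -- a maximal normal elementary abelian subgroup
  let Cand : Set (Subgroup P) := {B | B.Normal ∧ IsMulCommutative B ∧ ∀ b ∈ B, b ^ p ^ 1 = 1}
  have hbot : (⊥ : Subgroup P) ∈ Cand :=
    ⟨inferInstance, Subgroup.commutator_self_eq_bot_iff.1 (Subgroup.commutator_bot_left ⊥), fun b hb => by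
      rw [Subgroup.mem_bot.1 hb, one_pow]⟩
  obtain ⟨E, ⟨hEn, hEc, hEe⟩, hEmax⟩ := (Set.toFinite Cand).exists_maximal ⟨⊥, hbot⟩
  haveI := hEn
  haveI := hEc
  have hom := CfsgLib.PGroupAlperin.mem_of_centralizing hP 1
    (by rw [pow_one]; exact hp2) E hEc hEe
    fun B h1 h2 h3 h4 => le_antisymm (hEmax ⟨h1, h2, h3⟩ h4) h4
  simp only [pow_one] at hEe hom
  letI : CommGroup E := { (inferInstance : Group E) with mul_comm := fun a b => hEc.is_comm.comm a b }
  obtain ⟨e, hcardE⟩ := (hP.to_subgroup E).exists_card_eq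
  have hexp : ∀ x : E, x ^ p = 1 := fun x => Subtype.ext (by simpa using hEe x.1 x.2)
  have hek : e ≤ k := by
    obtain ⟨S, hS, hcl⟩ := hab E hEn hEc
    let S' : Finset E := S.attach.image fun s => ⟨s.1, hcl ▸ Subgroup.subset_closure s.2⟩
    have htop : Subgroup.closure (S' : Set E) = ⊤ := by
      refine Subgroup.map_injective E.subtype_injective ?_
      rw [MonoidHom.map_closure, ← MonoidHom.range_eq_map, Subgroup.range_subtype]
      refine Eq.trans ?_ hcl
      congr 1
      ext x
      simp [S']
      exact fun h => hcl ▸ Subgroup.subset_closure h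
    have h := card_le_of_gen hexp S'
    rw [htop, Subgroup.card_top, hcardE] at h
    exact ((Nat.pow_le_pow_iff_right hp.out.one_lt).1 h).trans
      ((Finset.card_image_le.trans_eq S.card_attach).trans hS)
  -- the action on `E`
  let act : H →* MulAut E :=
    (MulAut.conjNormal (G := P) (H := E)).comp H.subtype
  obtain ⟨gl, hgl⟩ := exists_gl hexp hcardE
  have hHp := hP.to_subgroup H
  -- the kernel
  set D := (gl.comp act).ker with hD
  have hDC : ∀ d : H, d ∈ D → (d : P) ∈ Subgroup.centralizer (E : Set P) := by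
    intro d hd
    have h1 : act d = 1 := hgl (by rw [map_one]; exact hd)
    refine Subgroup.mem_centralizer_iff.2 fun x hx => ?_
    have h2 : ((act d ⟨x, hx⟩ : E) : P) = x := by rw [h1]; rfl
    have h3 : (d : P) * x * (d : P)⁻¹ = x := h2
    exact (eq_mul_inv_iff_mul_eq.1 h3.symm).symm.symm
  have hcen : ∀ d : D, d ^ p = 1 → d ∈ Subgroup.center D := by
    intro d hd
    have hdE : ((d : H) : P) ∈ E := hom _ (hDC _ d.2) (by
      have := congrArg (fun z : D => ((z : H) : P)) hd
      simpa using this)
    refine Subgroup.mem_center_iff.2 fun z => Subtype.ext (Subtype.ext ?_)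
    exact (Subgroup.mem_centralizer_iff.1 (hDC _ z.2) _ hdE).symm
  let A : Subgroup D :=
    { carrier := {d | d ^ p = 1}
      one_mem' := one_pow p
      mul_mem' := fun {a b} ha hb => by
        show (a * b) ^ p = 1
        rw [(show Commute a b from ((Subgroup.mem_center_iff.1 (hcen a ha)) b).symm).mul_pow,
          show a ^ p = 1 from ha, show b ^ p = 1 from hb, one_mul]
      inv_mem' := fun {a} ha => by
        show (a⁻¹) ^ p = 1
        rw [inv_pow, show a ^ p = 1 from ha, inv_one] }
  have hAE : Nat.card A ≤ p ^ e := by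
    rw [← hcardE]
    refine Nat.card_le_card_of_injective (fun a : A => (⟨((a : D) : H), hom _ (hDC _ (a : D).2) (by
      have := congrArg (fun z : D => ((z : H) : P)) a.2
      simpa using this)⟩ : E)) fun a b h => ?_
    have h' := congrArg Subtype.val h
    exact Subtype.ext (Subtype.ext (Subtype.ext h'))
  have hDp := hHp.to_subgroup D
  obtain ⟨S, hS, hScl⟩ := exists_gen_of_card hDp (powSub p D) (CfsgLib.PGroupMeta.powSub_le_frattini hDp)
    ((pcentral_card hp2 _ D le_rfl hDp hcen A fun x => Iff.rfl).trans (Nat.mul_le_mul_right _ hAE))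
  -- the image
  have hRp : IsPGroup p (gl.comp act).range := hHp.of_surjective _ (gl.comp act).rangeRestrict_surjective
  have hL := card_le_gl hRp
  rw [← Subgroup.map_subtype_commutator (gl.comp act).range,
    Subgroup.card_map_of_injective (gl.comp act).range.subtype_injective] at hL
  obtain ⟨T, hT, hTcl⟩ := exists_gen_of_card hRp (commutator (gl.comp act).range)
    (CfsgLib.commutator_le_frattini_pGroup hRp) hL
  obtain ⟨U, hU, hUcl⟩ := exists_gen_ext (gl.comp act) (S.image D.subtype)
    (by rw [Finset.coe_image, ← MonoidHom.map_closure, hScl, ← MonoidHom.range_eq_map, Subgroup.range_subtype])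
    (T.image (gl.comp act).range.subtype)
    (by rw [Finset.coe_image, ← MonoidHom.map_closure, hTcl, ← MonoidHom.range_eq_map, Subgroup.range_subtype])
  refine ⟨U.image H.subtype, ?_, by
    rw [Finset.coe_image, ← MonoidHom.map_closure, hUcl, ← MonoidHom.range_eq_map, Subgroup.range_subtype]⟩
  refine Finset.card_image_le.trans (hU.trans ((Nat.add_le_add (Finset.card_image_le.trans hS)
    (Finset.card_image_le.trans hT)).trans ?_))
  refine (Nat.add_le_add hek (Nat.div_le_div_right (Nat.pow_le_pow_left hek 2))).trans (le_of_eq ?_)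
  rw [show k * (k + 4) = k ^ 2 + k * 4 by ring, Nat.add_mul_div_right _ _ (by norm_num : 0 < 4), add_comm]

end CfsgLib.GenRank
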